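import Mathlib

/-!
# Isomorphic subgroups of prime index (Glauberman): the windows

For `P ≤ G` and `g ∈ G` with `P ∩ P^g` normal of index `p` in `P^g`, and `g` normalising no nontrivial
normal subgroup of `P`, the group `P` is generated by `t` consecutive conjugates of an element.
-/

set_option autoImplicit false
set_option linter.unusedSectionVars false

namespace CfsgLib.IsoSubgroups

open scoped Pointwise

variable {G : Type*} [Group G]

/-- The elements moved into `P` by all `g ^ m` with `lo ≤ m ≤ hi`. -/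
def W (P : Subgroup G) (g : G) (lo hi : ℤ) : Subgroup G :=
  ⨅ m ∈ Set.Icc lo hi, P.comap (MulAut.conj (g ^ m)).toMonoidHom

theorem mem_W {P : Subgroup G} {g : G} {lo hi : ℤ} {y : G} :
    y ∈ W P g lo hi ↔ ∀ m, lo ≤ m → m ≤ hi → g ^ m * y * (g ^ m)⁻¹ ∈ P := by
  simp only [W, Subgroup.mem_iInf, Set.mem_Icc, Subgroup.mem_comap]
  exact ⟨fun h m h1 h2 => h m ⟨h1, h2⟩, fun h m hm => h m hm.1 hm.2⟩

theorem shift_mem {P : Subgroup G} {g : G} {lo hi : ℤ} {y : G} (a : ℤ) :
    g ^ a * y * (g ^ a)⁻¹ ∈ W P g lo hi ↔ y ∈ W P g (lo + a) (hi + a) := by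
  have e : ∀ m : ℤ, g ^ m * (g ^ a * y * (g ^ a)⁻¹) * (g ^ m)⁻¹ = g ^ (m + a) * y * (g ^ (m + a))⁻¹ :=
    fun m => by group
  rw [mem_W, mem_W]
  constructor
  · intro h m h1 h2
    have := h (m - a) (by omega) (by omega)
    rwa [e, sub_add_cancel] at this
  · intro h m h1 h2
    rw [e]
    exact h _ (by omega) (by omega)

theorem map_W (P : Subgroup G) (g : G) (lo hi a : ℤ) :
    (W P g lo hi).map (MulAut.conj (g ^ a)).toMonoidHom = W P g (lo - a) (hi - a) := by
  ext y
  constructor
  · rintro ⟨x, hx, rfl⟩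
    exact (shift_mem (y := x) a).mpr (by simpa using hx)
  · intro hy
    refine ⟨(g ^ a)⁻¹ * y * g ^ a, ?_, by
      show g ^ a * ((g ^ a)⁻¹ * y * g ^ a) * (g ^ a)⁻¹ = y
      group⟩
    have := (shift_mem (lo := lo - a) (hi := hi - a) (y := (g ^ a)⁻¹ * y * g ^ a) a).mp
      (by rw [show g ^ a * ((g ^ a)⁻¹ * y * g ^ a) * (g ^ a)⁻¹ = y by group]; exact hy)
    simpa using this

theorem card_W_shift (P : Subgroup G) (g : G) (lo hi a : ℤ) :
    Nat.card (W P g (lo - a) (hi - a)) = Nat.card (W P g lo hi) := by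
  rw [← map_W, Subgroup.card_map_of_injective (MulAut.conj (g ^ a)).injective]

theorem W_anti {P : Subgroup G} {g : G} {lo hi lo' hi' : ℤ} (h1 : lo ≤ lo') (h2 : hi' ≤ hi) :
    W P g lo hi ≤ W P g lo' hi' :=
  fun _ hy => mem_W.mpr fun m hm1 hm2 => mem_W.mp hy m (h1.trans hm1) (hm2.trans h2)

theorem W_zero (P : Subgroup G) (g : G) : W P g 0 0 = P := by
  ext y
  rw [mem_W]
  refine ⟨fun h => by simpa using h 0 le_rfl le_rfl, fun h m h1 h2 => ?_⟩
  obtain rfl : m = 0 := le_antisymm h2 h1
  simpa using h

/-- Two overlapping windows. -/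
theorem inf_le_W {P : Subgroup G} {g : G} {a b c d : ℤ} (h : c ≤ b + 1) :
    W P g a b ⊓ W P g c d ≤ W P g a d :=
  fun y hy => mem_W.mpr fun m hm1 hm2 => by
    by_cases hm : m ≤ b
    · exact mem_W.mp (Subgroup.mem_inf.mp hy).1 m hm1 hm
    · exact mem_W.mp (Subgroup.mem_inf.mp hy).2 m (by omega) hm2

/-- The hypotheses. -/
structure Hyp [Finite G] (P : Subgroup G) (g : G) (p : ℕ) : Prop where
  prime : p.Prime
  normal : ((P ⊓ MulAut.conj g⁻¹ • P).subgroupOf (MulAut.conj g⁻¹ • P)).Normal
  index : (P ⊓ MulAut.conj g⁻¹ • P).relIndex (MulAut.conj g⁻¹ • P) = p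
  core : ∀ Q : Subgroup G, Q ≤ P → (Q.subgroupOf P).Normal → MulAut.conj g • Q = Q → Q = ⊥

theorem conj_smul_eq_W (P : Subgroup G) (g : G) : MulAut.conj g⁻¹ • P = W P g 1 1 := by
  ext y
  rw [Subgroup.mem_pointwise_smul_iff_inv_smul_mem, mem_W]
  refine ⟨fun h m h1 h2 => ?_, fun h => by simpa using h 1 le_rfl le_rfl⟩
  obtain rfl : m = 1 := le_antisymm h2 h1
  simpa using h

variable [Finite G] {P : Subgroup G} {g : G} {p : ℕ} (h : Hyp P g p)
include h

theorem step (j : ℕ) :
    ((W P g 0 (j + 1)).subgroupOf (W P g 1 (j + 1))).Normal ∧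
      (W P g 0 (j + 1)).relIndex (W P g 1 (j + 1)) ∣ p := by
  set A := W P g 1 1 with hA
  set M := P ⊓ A with hM
  set B := W P g 1 (j + 1) with hB
  have hBA : B ≤ A := W_anti le_rfl (by omega)
  have he : W P g 0 (j + 1) = M ⊓ B := by
    refine le_antisymm (le_inf (le_inf ?_ ?_) (W_anti (by omega) le_rfl)) fun y hy => ?_
    · conv_rhs => rw [← W_zero P g]
      exact W_anti le_rfl (by omega)
    · exact W_anti (by omega) (by omega)
    · refine inf_le_W (a := 0) (b := 0) (c := 1) (by omega) (Subgroup.mem_inf.mpr ⟨?_, (Subgroup.mem_inf.mp hy).2⟩)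
      rw [W_zero]
      exact (Subgroup.mem_inf.mp (Subgroup.mem_inf.mp hy).1).1
  have hn := h.normal
  have hi := h.index
  rw [conj_smul_eq_W] at hn hi
  haveI : (M.subgroupOf A).Normal := hn
  refine ⟨?_, ?_⟩
  · refine ⟨fun y hy b => ?_⟩
    rw [Subgroup.mem_subgroupOf] at hy ⊢
    rw [he] at hy ⊢
    refine Subgroup.mem_inf.mpr ⟨?_, (b * y * b⁻¹).2⟩
    have hc := (inferInstance : (M.subgroupOf A).Normal).conj_mem ⟨(y : G), hBA y.2⟩
      (Subgroup.mem_subgroupOf.mpr (Subgroup.mem_inf.mp hy).1) ⟨(b : G), hBA b.2⟩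
    rw [Subgroup.mem_subgroupOf, Subgroup.coe_mul, Subgroup.coe_mul, Subgroup.coe_inv] at hc
    rw [Subgroup.coe_mul, Subgroup.coe_mul, Subgroup.coe_inv]
    exact hc
  · rw [he, Subgroup.inf_relIndex_right, ← Subgroup.relIndex_subgroupOf hBA (H := M), ← hi]
    exact Subgroup.relIndex_dvd_index_of_normal _ _

theorem card_step (j : ℕ) : Nat.card (W P g 0 (j + 1)) = Nat.card (W P g 0 j) ∨
    p * Nat.card (W P g 0 (j + 1)) = Nat.card (W P g 0 j) := by
  have hle : W P g 0 (j + 1) ≤ W P g 1 (j + 1) := W_anti (by omega) le_rfl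
  have e : Nat.card (W P g 1 (j + 1)) = Nat.card (W P g 0 j) := by
    have := card_W_shift P g 1 (j + 1) 1
    simpa using this.symm
  have hm := ((W P g 0 (j + 1)).subgroupOf (W P g 1 (j + 1))).card_mul_index
  rw [Nat.card_congr (Subgroup.subgroupOfEquivOfLe hle).toEquiv, e] at hm
  change Nat.card (W P g 0 (j + 1)) * (W P g 0 (j + 1)).relIndex (W P g 1 (j + 1)) =
    Nat.card (W P g 0 j) at hm
  rcases (Nat.dvd_prime h.prime).mp (step h j).2 with h1 | h1
  · left; rw [← hm, h1, mul_one]
  · right; rw [← hm, h1, mul_comm]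

theorem join_step {i : ℕ} (hi : p * Nat.card (W P g 0 (i + 1)) = Nat.card (W P g 0 i))
    (hne : W P g 0 (i + 1) ≠ W P g (-1) i) :
    W P g 0 (i + 1) ⊔ W P g (-1) i = W P g 0 i := by
  refine le_antisymm (sup_le (W_anti le_rfl (by omega)) (W_anti (by omega) le_rfl)) ?_
  have hcard : Nat.card (W P g (-1) i) = Nat.card (W P g 0 (i + 1)) := by
    have := card_W_shift P g 0 (i + 1) 1
    simpa using this
  set U := W P g 0 (i + 1) ⊔ W P g (-1) i with hU
  have hle : U ≤ W P g 0 i := sup_le (W_anti le_rfl (by omega)) (W_anti (by omega) le_rfl)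
  obtain ⟨k, hk⟩ := Subgroup.card_dvd_of_le (le_sup_left : W P g 0 (i + 1) ≤ U)
  obtain ⟨l, hl⟩ := Subgroup.card_dvd_of_le hle
  rw [hk, ← hi, mul_comm p, mul_assoc, Nat.mul_left_cancel_iff Nat.card_pos] at hl
  rcases (Nat.dvd_prime h.prime).mp (Dvd.intro l hl.symm) with h1 | h1
  · exfalso
    rw [h1, mul_one] at hk
    have e1 : W P g 0 (i + 1) = U := Subgroup.eq_of_le_of_card_ge le_sup_left hk.le
    have e2 : W P g (-1) i = U := Subgroup.eq_of_le_of_card_ge le_sup_right (hk.le.trans hcard.ge)
    exact hne (e1.trans e2.symm)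
  · refine (Subgroup.eq_of_le_of_card_ge hle ?_).ge
    rw [← hi, hk, h1, mul_comm]

theorem not_invariant {j : ℕ} (hpre : ∀ i < j, p * Nat.card (W P g 0 (i + 1)) = Nat.card (W P g 0 i))
    (heq : Nat.card (W P g 0 (j + 1)) = Nat.card (W P g 0 j)) : W P g 0 j = ⊥ := by
  set D := W P g 0 j with hD
  have e1 : W P g 0 (j + 1) = D := Subgroup.eq_of_le_of_card_ge (W_anti le_rfl (by omega)) heq.ge
  have e2 : W P g 1 (j + 1) = W P g 0 (j + 1) :=
    (Subgroup.eq_of_le_of_card_ge (W_anti (by omega) le_rfl) (by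
      rw [heq]
      have := card_W_shift P g 1 (j + 1) 1
      simpa using this.ge)).symm
  have hinv : ∀ a : ℤ, D.map (MulAut.conj (g ^ a)).toMonoidHom = D := by
    have h1 : D.map (MulAut.conj g).toMonoidHom = D := by
      have := map_W P g 1 (j + 1) 1
      rw [e2, e1, zpow_one] at this
      simpa using this
    intro a
    induction a using Int.induction_on with
    | zero => ext y; simp [Subgroup.mem_map]
    | succ n ih =>
      rw [zpow_add, zpow_one, map_mul]
      change D.map ((MulAut.conj (g ^ (n : ℤ))).toMonoidHom.comp (MulAut.conj g).toMonoidHom) = D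
      rw [← Subgroup.map_map, h1, ih]
    | pred n ih =>
      have h1' : D.map (MulAut.conj g⁻¹).toMonoidHom = D := by
        conv_lhs => rw [← h1]
        rw [Subgroup.map_map]
        ext y; simp [Subgroup.mem_map, mul_assoc]
      rw [zpow_sub, zpow_one, map_mul]
      change D.map ((MulAut.conj (g ^ (-(n : ℤ)))).toMonoidHom.comp (MulAut.conj g⁻¹).toMonoidHom) = D
      rw [← Subgroup.map_map, h1', ih]
  -- everything in sight normalises `D`
  have hnorm : ∀ i ≤ j, W P g 0 i ≤ Subgroup.normalizer (D : Set G) := by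
    suffices ∀ k ≤ j, W P g 0 ((j - k : ℕ)) ≤ Subgroup.normalizer (D : Set G) by
      intro i hi
      have := this (j - i) (by omega)
      rwa [show j - (j - i) = i by omega] at this
    intro k
    induction k with
    | zero => intro _; exact Subgroup.le_normalizer
    | succ k ih =>
      intro hk
      set i := j - (k + 1) with hi
      have hi1 : j - k = i + 1 := by omega
      have ih' := ih (by omega)
      rw [hi1] at ih'
      have hshift : W P g (-1) i ≤ Subgroup.normalizer (D : Set G) := by
        intro y hy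
        have hy' : g⁻¹ * y * g ∈ W P g 0 ((i + 1 : ℕ) : ℤ) := by
          have := (shift_mem (lo := 0) (hi := ((i + 1 : ℕ) : ℤ)) (y := y) (-1)).mpr (by simpa using hy)
          simpa using this
        have hz := ih' hy'
        have e : g ∈ Subgroup.normalizer (D : Set G) := by
          rw [Subgroup.mem_normalizer_iff]
          intro d
          have := hinv 1
          rw [zpow_one] at this
          constructor
          · intro hd; rw [← this]; exact ⟨d, hd, rfl⟩
          · intro hd
            rw [← this] at hd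
            obtain ⟨d', hd', hd''⟩ := hd
            exact ((MulAut.conj g).injective hd'' : d' = d) ▸ hd'
        have := mul_mem (mul_mem e hz) (inv_mem e)
        simpa [mul_assoc] using this
      rcases Nat.eq_zero_or_pos k with rfl | hk0
      · have hn := (step h i).1
        have e3 : i + 1 = j := by omega
        intro y hy
        have hy' : g⁻¹ * y * g ∈ W P g 1 ((i : ℤ) + 1) := by
          have := (shift_mem (lo := 1) (hi := (i : ℤ) + 1) (y := y) (-1)).mpr (by simpa using hy)
          simpa using this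
        have hz : g⁻¹ * y * g ∈ Subgroup.normalizer (D : Set G) := by
          have e4 : W P g 0 ((i : ℤ) + 1) = D := by rw [hD, ← e3]; norm_num
          rw [e4] at hn
          have hle : D ≤ W P g 1 ((i : ℤ) + 1) := by
            rw [← e4]; exact W_anti (by omega) le_rfl
          exact (Subgroup.normal_subgroupOf_iff_le_normalizer hle).mp hn hy'
        have e : g ∈ Subgroup.normalizer (D : Set G) := by
          rw [Subgroup.mem_normalizer_iff]
          intro d
          have := hinv 1
          rw [zpow_one] at this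
          constructor
          · intro hd; rw [← this]; exact ⟨d, hd, rfl⟩
          · intro hd
            rw [← this] at hd
            obtain ⟨d', hd', hd''⟩ := hd
            exact ((MulAut.conj g).injective hd'' : d' = d) ▸ hd'
        have := mul_mem (mul_mem e hz) (inv_mem e)
        simpa [mul_assoc] using this
      · have hne : W P g 0 ((i : ℤ) + 1) ≠ W P g (-1) i := by
          intro e
          have hw : W P g 0 ((i : ℤ) + 2) = W P g 0 ((i : ℤ) + 1) := by
            refine le_antisymm (W_anti le_rfl (by omega)) fun y hy => ?_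
            have hy2 : y ∈ W P g 1 ((i : ℤ) + 2) := by
              have h3 : (W P g 0 ((i : ℤ) + 1)).map (MulAut.conj (g ^ (-1 : ℤ))).toMonoidHom =
                  W P g 1 ((i : ℤ) + 2) := by rw [map_W]; norm_num; ring_nf
              have h4 : (W P g (-1) i).map (MulAut.conj (g ^ (-1 : ℤ))).toMonoidHom =
                  W P g 0 ((i : ℤ) + 1) := by rw [map_W]; norm_num
              rw [← h3, e, h4]
              exact hy
            exact inf_le_W (b := (i : ℤ) + 1) (c := 1) (by omega) (Subgroup.mem_inf.mpr ⟨hy, hy2⟩)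
          have := hpre (i + 1) (by omega)
          rw [show (((i + 1 : ℕ) : ℤ) + 1) = (i : ℤ) + 2 by push_cast; ring,
            show (((i + 1 : ℕ) : ℤ)) = (i : ℤ) + 1 by push_cast; rfl, hw] at this
          have hpos : 0 < Nat.card (W P g 0 ((i : ℤ) + 1)) := Nat.card_pos
          have := h.prime.two_le
          nlinarith
        rw [← join_step h (hpre i (by omega)) hne]
        refine sup_le ?_ hshift
        simpa using ih'
  refine h.core D ?_ ?_ ?_
  · conv_rhs => rw [← W_zero P g]
    exact W_anti le_rfl (by omega)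
  · refine (Subgroup.normal_subgroupOf_iff_le_normalizer ?_).mpr ?_
    · conv_rhs => rw [← W_zero P g]
      exact W_anti le_rfl (by omega)
    · have := hnorm 0 (Nat.zero_le j)
      rwa [Nat.cast_zero, W_zero] at this
  · have := hinv 1
    rw [zpow_one] at this
    exact this

/-- The length. -/
theorem exists_length : ∃ t : ℕ, 1 ≤ t ∧ ∀ j ≤ t, Nat.card (W P g 0 j) = p ^ (t - j) := by
  classical
  have hterm : ∃ t : ℕ, W P g 0 t = ⊥ := by
    by_contra hall
    have hdec : ∀ j : ℕ, ∀ i < j, p * Nat.card (W P g 0 (i + 1)) = Nat.card (W P g 0 i) := by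
      intro j
      induction j with
      | zero => intro i hi; omega
      | succ j ih =>
        intro i hi
        rcases Nat.lt_succ_iff_lt_or_eq.mp hi with hi' | rfl
        · exact ih i hi'
        · rcases card_step h i with e | e
          · exact absurd ⟨i, not_invariant h ih e⟩ hall
          · exact e
    have hbig : ∀ j : ℕ, p ^ j * Nat.card (W P g 0 j) = Nat.card (W P g 0 0) := by
      intro j
      induction j with
      | zero => simp
      | succ j ih => rw [← ih, pow_succ, mul_assoc, ← hdec (j + 1) j (by omega)]; norm_num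
    have h1 := hbig (Nat.card (W P g 0 0))
    have h2 : Nat.card (W P g 0 0) < p ^ Nat.card (W P g 0 0) := Nat.lt_pow_self h.prime.one_lt
    have h3 : 0 < Nat.card (W P g 0 (Nat.card (W P g 0 0) : ℤ)) := Nat.card_pos
    have h4 := Nat.le_mul_of_pos_right (p ^ Nat.card (W P g 0 0)) h3
    omega
  set t := Nat.find hterm with ht
  have htb : W P g 0 t = ⊥ := Nat.find_spec hterm
  have hdec : ∀ i < t, p * Nat.card (W P g 0 (i + 1)) = Nat.card (W P g 0 i) := by
    suffices ∀ j ≤ t, ∀ i < j, p * Nat.card (W P g 0 (i + 1)) = Nat.card (W P g 0 i) from this t le_rfl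
    intro j
    induction j with
    | zero => intro _ i hi; omega
    | succ j ih =>
      intro hj i hi
      rcases Nat.lt_succ_iff_lt_or_eq.mp hi with hi' | rfl
      · exact ih (by omega) i hi'
      · rcases card_step h i with e | e
        · exact absurd (not_invariant h (ih (by omega)) e) (Nat.find_min hterm (by omega))
        · exact e
  have ht1 : 1 ≤ t := by
    by_contra h0
    have h00 : t = 0 := by omega
    rw [h00, Nat.cast_zero, W_zero] at htb
    have hi := h.index
    rw [htb, smul_bot_eq, bot_inf_eq, Subgroup.relIndex_self] at hi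
    exact h.prime.ne_one hi.symm
  refine ⟨t, ht1, ?_⟩
  suffices ∀ k ≤ t, Nat.card (W P g 0 ((t - k : ℕ))) = p ^ k by
    intro j hj
    have := this (t - j) (by omega)
    rwa [show t - (t - j) = j by omega] at this
  intro k
  induction k with
  | zero => intro _; rw [Nat.sub_zero, htb, pow_zero]; simp
  | succ k ih =>
    intro hk
    have := hdec (t - (k + 1)) (by omega)
    rw [← this, pow_succ', show ((t - (k + 1) : ℕ) : ℤ) + 1 = ((t - k : ℕ) : ℤ) by omega,
      ih (by omega)]
  where
    smul_bot_eq : MulAut.conj g⁻¹ • (⊥ : Subgroup G) = ⊥ := Subgroup.map_bot _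

end CfsgLib.IsoSubgroups
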