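import Mathlib
import Cfsg.Agent.Lib.IsoSubgroups.Windows

/-!
# Isomorphic subgroups of prime index (Glauberman): the bound
-/

set_option autoImplicit false
set_option linter.unusedSectionVars false

namespace CfsgLib.IsoSubgroups

open scoped Pointwise

variable {G : Type*} [Group G]

/-- Generators `x i` whose windows of length `k ≤ t` have order `p ^ k`. -/
structure Chain (x : ℤ → G) (p t : ℕ) : Prop where
  prime : p.Prime
  shift : ∀ a b : ℤ, Commute (x 0) (x (b - a)) ↔ Commute (x a) (x b)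
  span : ∀ (a : ℤ) (k : ℕ), k ≤ t → Nat.card (Subgroup.closure (x '' Set.Ico a (a + k))) = p ^ k
  meet : ∀ (a b : ℤ) (k l : ℕ), k ≤ t → l ≤ t → a ≤ b → b ≤ a + k → b + l ≤ a + t + 1 →
    Subgroup.closure (x '' Set.Ico a (a + k)) ⊓ Subgroup.closure (x '' Set.Ico b (b + l)) ≤
      Subgroup.closure (x '' Set.Ico b (a + k))
  normal_left : ∀ (a : ℤ) (k : ℕ), k < t →
    Subgroup.closure (x '' Set.Ico a (a + (k + 1 : ℕ))) ≤
      Subgroup.normalizer ((Subgroup.closure (x '' Set.Ico a (a + k)) : Subgroup G) : Set G)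
  normal_right : ∀ (a : ℤ) (k : ℕ), k < t →
    Subgroup.closure (x '' Set.Ico a (a + (k + 1 : ℕ))) ≤
      Subgroup.normalizer ((Subgroup.closure (x '' Set.Ico (a + 1) (a + (k + 1 : ℕ))) : Subgroup G) : Set G)

variable {x : ℤ → G} {p t : ℕ}

/-- The commutator of two generators lies strictly between them. -/
theorem Chain.comm_mem (h : Chain x p t) {a : ℤ} {m : ℕ} (hm1 : 1 ≤ m) (hm : m < t) :
    x a * x (a + m) * (x a)⁻¹ * (x (a + m))⁻¹ ∈ Subgroup.closure (x '' Set.Ico (a + 1) (a + m)) := by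
  have hA : x a ∈ Subgroup.closure (x '' Set.Ico a (a + (m + 1 : ℕ))) :=
    Subgroup.subset_closure ⟨a, ⟨le_rfl, by push_cast; omega⟩, rfl⟩
  have hB : x (a + m) ∈ Subgroup.closure (x '' Set.Ico a (a + (m + 1 : ℕ))) :=
    Subgroup.subset_closure ⟨a + m, ⟨by omega, by push_cast; omega⟩, rfl⟩
  have hmem := h.meet a (a + 1) m m hm.le hm.le (by omega) (by omega) (by omega)
  refine hmem (Subgroup.mem_inf.mpr ⟨?_, ?_⟩)
  · have h1 := h.normal_left a m hm hB
    have h2 : x a ∈ Subgroup.closure (x '' Set.Ico a (a + m)) :=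
      Subgroup.subset_closure ⟨a, ⟨le_rfl, by omega⟩, rfl⟩
    have h3 := (Subgroup.mem_normalizer_iff.mp h1 _).mp (inv_mem h2)
    have := mul_mem h2 h3
    simpa [mul_assoc] using this
  · have h1 := h.normal_right a m hm hA
    have h2 : x (a + m) ∈ Subgroup.closure (x '' Set.Ico (a + 1) (a + (m + 1 : ℕ))) :=
      Subgroup.subset_closure ⟨a + m, ⟨by omega, by push_cast; omega⟩, rfl⟩
    have h3 := (Subgroup.mem_normalizer_iff.mp h1 _).mp h2
    have := mul_mem h3 (inv_mem h2)
    rw [show (a + 1 + (m : ℤ)) = a + (m + 1 : ℕ) by push_cast; ring]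
    exact this

/-- The reversed chain. -/
theorem Chain.reverse (h : Chain x p t) : Chain (fun i => x (-i)) p t := by
  have himg : ∀ a b : ℤ, (fun i => x (-i)) '' Set.Ico a b = x '' Set.Ico (1 - b) (1 - a) := by
    intro a b
    ext y
    constructor
    · rintro ⟨i, ⟨h1, h2⟩, rfl⟩
      exact ⟨-i, ⟨by omega, by omega⟩, rfl⟩
    · rintro ⟨i, ⟨h1, h2⟩, rfl⟩
      exact ⟨-i, ⟨by omega, by omega⟩, by simp⟩
  refine ⟨h.prime, fun a b => ?_, fun a k hk => ?_, fun a b k l hk hl hab hbk hbl => ?_, ?_, ?_⟩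
  · have h1 := h.shift (-b) (-a)
    have h2 := h.shift (-(b - a)) (-0)
    rw [show (-a - -b) = b - a by ring] at h1
    rw [show ((-0 : ℤ) - -(b - a)) = b - a by ring] at h2
    show Commute (x (-0)) (x (-(b - a))) ↔ Commute (x (-a)) (x (-b))
    exact ⟨fun hc => (h1.mp (h2.mpr hc.symm)).symm, fun hc => (h2.mp (h1.mpr hc.symm)).symm⟩
  · rw [himg]
    have := h.span (1 - (a + k)) k hk
    rwa [show 1 - (a + (k : ℤ)) + k = 1 - a by ring] at this
  · rw [himg, himg, himg]
    by_cases hcase : b + l ≤ a + k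
    · refine inf_le_right.trans (Subgroup.closure_mono (Set.image_mono fun i hi => ⟨?_, hi.2⟩))
      exact (show 1 - (a + (k : ℤ)) ≤ 1 - (b + l) by omega).trans hi.1
    · have := h.meet (1 - (b + l)) (1 - (a + k)) l k hl hk (by omega) (by omega) (by omega)
      rw [show 1 - (b + (l : ℤ)) + l = 1 - b by ring,
        show 1 - (a + (k : ℤ)) + k = 1 - a by ring] at this
      rw [inf_comm]
      exact this
  · intro a k hk
    rw [himg, himg]
    have := h.normal_right (1 - (a + (k + 1 : ℕ))) k hk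
    rw [show 1 - (a + ((k + 1 : ℕ) : ℤ)) + (k + 1 : ℕ) = 1 - a by ring,
      show 1 - (a + ((k + 1 : ℕ) : ℤ)) + 1 = 1 - (a + k) by push_cast; ring] at this
    exact this
  · intro a k hk
    rw [himg, himg]
    have := h.normal_left (1 - (a + (k + 1 : ℕ))) k hk
    rw [show 1 - (a + ((k + 1 : ℕ) : ℤ)) + (k + 1 : ℕ) = 1 - a by ring,
      show 1 - (a + ((k + 1 : ℕ) : ℤ)) + (k : ℤ) = 1 - (a + 1) by push_cast; ring] at this
    exact this

theorem Chain.commute_of (h : Chain x p t) {r : ℕ}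
    (hlt : ∀ d : ℕ, d < r → Commute (x 0) (x d)) {a b : ℤ} (h1 : a - b < r) (h2 : b - a < r) :
    Commute (x a) (x b) := by
  rcases le_total a b with hab | hab
  · obtain ⟨d, hd⟩ := Int.eq_ofNat_of_zero_le (show 0 ≤ b - a by omega)
    refine (h.shift a b).mp ?_
    rw [hd]
    exact hlt d (by omega)
  · obtain ⟨d, hd⟩ := Int.eq_ofNat_of_zero_le (show 0 ≤ a - b by omega)
    refine ((h.shift b a).mp ?_).symm
    rw [hd]
    exact hlt d (by omega)

theorem commute_closure {S T : Set G} (h : ∀ a ∈ S, ∀ b ∈ T, Commute a b) {u v : G}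
    (hu : u ∈ Subgroup.closure S) (hv : v ∈ Subgroup.closure T) : Commute u v := by
  induction hu using Subgroup.closure_induction with
  | mem a ha =>
    induction hv using Subgroup.closure_induction with
    | mem b hb => exact h a ha b hb
    | one => exact Commute.one_right a
    | mul _ _ _ _ h1 h2 => exact h1.mul_right h2
    | inv _ _ h1 => exact h1.inv_right
  | one => exact Commute.one_left v
  | mul _ _ _ _ h1 h2 => exact h1.mul_left h2
  | inv _ _ h1 => exact h1.inv_left

/-- The highest generator involved in the first nontrivial commutator. -/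
theorem Chain.high (h : Chain x p t) {r : ℕ} (hr1 : 1 ≤ r) (hrt : r < t)
    (hlt : ∀ d : ℕ, d < r → Commute (x 0) (x d)) (hne : ¬ Commute (x 0) (x r)) :
    x 0 * x r * (x 0)⁻¹ * (x r)⁻¹ ∈ Subgroup.closure (x '' Set.Ico 1 (2 * r - t + 1 : ℤ)) := by
  classical
  set w := x 0 * x r * (x 0)⁻¹ * (x r)⁻¹ with hw
  have hw0 : w ∈ Subgroup.closure (x '' Set.Ico 1 (r : ℤ)) := by
    have := h.comm_mem (a := 0) hr1 hrt
    simpa using this
  have hex : ∃ v : ℕ, w ∈ Subgroup.closure (x '' Set.Ico 1 ((v : ℤ) + 1)) :=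
    ⟨r - 1, by rw [show (((r - 1 : ℕ) : ℤ) + 1) = r by omega]; exact hw0⟩
  set v := Nat.find hex with hv
  have hvmem := Nat.find_spec hex
  have hvr : v ≤ r - 1 :=
    Nat.find_min' hex (by rw [show (((r - 1 : ℕ) : ℤ) + 1) = r by omega]; exact hw0)
  rw [← hv] at hvmem
  have hw1 : w ≠ 1 := fun e => hne (mul_inv_eq_iff_eq_mul.mp (mul_inv_eq_one.mp e))
  have hv1 : 1 ≤ v := by
    by_contra h0
    rw [show v = 0 by omega] at hvmem
    simp at hvmem
    exact hw1 hvmem
  by_cases hfin : (v : ℤ) ≤ 2 * r - t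
  · exact Subgroup.closure_mono (Set.image_mono (Set.Ico_subset_Ico le_rfl (by omega))) hvmem
  exfalso
  set d : ℤ := (v : ℤ) - r with hd
  set a := x d with ha
  have hc0 : Commute a (x 0) := h.commute_of hlt (by omega) (by omega)
  set c := a * x r * a⁻¹ * (x r)⁻¹ with hc
  have hcmem : c ∈ Subgroup.closure (x '' Set.Ico (d + 1) (r : ℤ)) := by
    have := h.comm_mem (a := d) (m := 2 * r - v) (by omega) (by omega)
    rwa [show d + ((2 * r - v : ℕ) : ℤ) = r by omega] at this
  have hcx0 : Commute c (x 0) := commute_closure (T := {x 0}) (by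
    rintro _ ⟨i, ⟨h1, h2⟩, rfl⟩ b rfl
    exact h.commute_of hlt (by omega) (by omega)) hcmem (Subgroup.subset_closure rfl)
  have hcw : Commute c w := commute_closure (by
    rintro _ ⟨i, ⟨h1, h2⟩, rfl⟩ _ ⟨j, ⟨h3, h4⟩, rfl⟩
    exact h.commute_of hlt (by omega) (by omega)) hcmem hvmem
  have haw : Commute a w := by
    have e : a * w * a⁻¹ = w := by
      calc a * w * a⁻¹ = (a * x 0 * a⁻¹) * (c * x r) * (a * x 0 * a⁻¹)⁻¹ * (c * x r)⁻¹ := by
            rw [hw, hc]; group
        _ = x 0 * (c * x r) * (x 0)⁻¹ * (c * x r)⁻¹ := by rw [hc0.eq, mul_inv_cancel_right]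
        _ = (x 0 * c) * x r * (x 0)⁻¹ * (x r)⁻¹ * c⁻¹ := by group
        _ = (c * x 0) * x r * (x 0)⁻¹ * (x r)⁻¹ * c⁻¹ := by rw [hcx0.eq]
        _ = c * w * c⁻¹ := by rw [hw]; group
        _ = w := by rw [hcw.eq, mul_inv_cancel_right]
    exact mul_inv_eq_iff_eq_mul.mp e
  -- split off the last generator
  have hmem2 : ∀ z ∈ Subgroup.closure (x '' Set.Ico 1 ((v : ℤ) + 1)),
      ∃ u ∈ Subgroup.closure (x '' Set.Ico 1 (v : ℤ)), ∃ e : ℤ, z = u * x v ^ e := by
    have hxvc : ∀ u ∈ Subgroup.closure (x '' Set.Ico 1 (v : ℤ)), ∀ e : ℤ, Commute u (x v ^ e) :=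
      fun u hu e => (commute_closure (T := {x v}) (by
        rintro _ ⟨i, ⟨h1, h2⟩, rfl⟩ b rfl
        exact h.commute_of hlt (by omega) (by omega)) hu (Subgroup.subset_closure rfl)).zpow_right e
    intro z hz
    induction hz using Subgroup.closure_induction with
    | mem z hz =>
      obtain ⟨i, ⟨h1, h2⟩, rfl⟩ := hz
      by_cases hi : i < v
      · exact ⟨x i, Subgroup.subset_closure ⟨i, ⟨h1, hi⟩, rfl⟩, 0, by simp⟩
      · exact ⟨1, one_mem _, 1, by simp [show i = (v : ℤ) by omega]⟩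
    | one => exact ⟨1, one_mem _, 0, by simp⟩
    | mul z z' _ _ hz hz' =>
      obtain ⟨u, hu, e, rfl⟩ := hz
      obtain ⟨u', hu', e', rfl⟩ := hz'
      refine ⟨u * u', mul_mem hu hu', e + e', ?_⟩
      rw [zpow_add]
      exact (hxvc u' hu' e).symm.mul_mul_mul_comm u (x v ^ e')
    | inv z _ hz =>
      obtain ⟨u, hu, e, rfl⟩ := hz
      refine ⟨u⁻¹, inv_mem hu, -e, ?_⟩
      rw [mul_inv_rev, zpow_neg, ((hxvc u hu e).inv_inv).eq]
  obtain ⟨u, hu, e, hwe⟩ := hmem2 w hvmem
  have hau : Commute a u := commute_closure (S := {a}) (by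
    rintro b rfl _ ⟨j, ⟨h3, h4⟩, rfl⟩
    exact h.commute_of hlt (by omega) (by omega)) (Subgroup.subset_closure rfl) hu
  have hae : Commute a (x v ^ e) := by
    have := hau.inv_right.mul_right haw
    rwa [hwe, inv_mul_cancel_left] at this
  have hord : x v ^ (p : ℤ) = 1 := by
    have hmem : x v ∈ Subgroup.closure (x '' Set.Ico (v : ℤ) (v + (1 : ℕ))) :=
      Subgroup.subset_closure ⟨v, ⟨le_rfl, by push_cast; omega⟩, rfl⟩
    have hd' := Subgroup.orderOf_dvd_natCard _ hmem
    rw [h.span v 1 (by omega), pow_one] at hd'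
    rw [zpow_natCast]
    exact orderOf_dvd_iff_pow_eq_one.mp hd'
  by_cases hpe : (p : ℤ) ∣ e
  · obtain ⟨q, rfl⟩ := hpe
    rw [zpow_mul, hord, one_zpow, mul_one] at hwe
    exact Nat.find_min hex (show v - 1 < v by omega)
      (by rw [show (((v - 1 : ℕ) : ℤ) + 1) = v by omega, hwe]; exact hu)
  · obtain ⟨s, q, hsq⟩ : IsCoprime e (p : ℤ) :=
      ((Nat.prime_iff_prime_int.mp h.prime).coprime_iff_not_dvd.mpr hpe).symm
    have hav : Commute a (x v) := by
      have := hae.zpow_right s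
      rwa [← zpow_mul, show e * s = 1 - (p : ℤ) * q by linarith, zpow_sub, zpow_one, zpow_mul,
        hord, one_zpow, inv_one, mul_one] at this
    refine hne ?_
    have := (h.shift d v).mpr hav
    rwa [show (v : ℤ) - d = r by omega] at this

/-- The bound. -/
theorem Chain.bound (h : Chain x p t) {r : ℕ} (hr1 : 1 ≤ r) (hrt : r < t)
    (hlt : ∀ d : ℕ, d < r → Commute (x 0) (x d)) (hne : ¬ Commute (x 0) (x r)) : 2 * t ≤ 3 * r := by
  by_contra hlt3
  set w := x 0 * x r * (x 0)⁻¹ * (x r)⁻¹ with hw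
  have h1 := h.high hr1 hrt hlt hne
  -- the same for the reversed chain, moved by `r`
  set y : ℤ → G := fun i => x ((r : ℤ) - i) with hy
  have hy' : Chain y p t := by
    have hz : Chain (fun i => x (i + r)) p t := by
      have himg : ∀ a b : ℤ, (fun i => x (i + r)) '' Set.Ico a b = x '' Set.Ico (a + r) (b + r) := by
        intro a b
        ext z
        constructor
        · rintro ⟨i, ⟨h1, h2⟩, rfl⟩
          exact ⟨i + r, ⟨by omega, by omega⟩, rfl⟩
        · rintro ⟨i, ⟨h1, h2⟩, rfl⟩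
          exact ⟨i - r, ⟨by omega, by omega⟩, by simp⟩
      refine ⟨h.prime, fun a b => ?_, fun a k hk => ?_, fun a b k l hk hl hab hbk hbl => ?_,
        fun a k hk => ?_, fun a k hk => ?_⟩
      · show Commute (x (0 + r)) (x (b - a + r)) ↔ _
        rw [← h.shift (0 + r), ← h.shift (a + r)]
        ring_nf
      · rw [himg, show a + (k : ℤ) + r = a + r + k by ring]
        exact h.span _ k hk
      · rw [himg, himg, himg]
        rw [show a + (k : ℤ) + r = a + r + k by ring, show b + (l : ℤ) + r = b + r + l by ring]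
        exact h.meet _ _ k l hk hl (by omega) (by omega) (by omega)
      · rw [himg, himg, show a + ((k + 1 : ℕ) : ℤ) + r = a + r + (k + 1 : ℕ) by ring,
          show a + (k : ℤ) + r = a + r + k by ring]
        exact h.normal_left _ k hk
      · rw [himg, himg, show a + ((k + 1 : ℕ) : ℤ) + r = a + r + (k + 1 : ℕ) by ring,
          show a + (1 : ℤ) + r = a + r + 1 by ring]
        exact h.normal_right _ k hk
    have := hz.reverse
    refine (?_ : Chain y p t)
    rw [hy]
    convert this using 2 with i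
    congr 1
    ring
  have hcr : ∀ d : ℕ, d < r → Commute (y 0) (y d) := fun d hd => by
    have := (h.shift ((r : ℤ) - d) r).mp (by rw [show (r : ℤ) - ((r : ℤ) - d) = d by ring]; exact hlt d hd)
    simp only [hy, sub_zero]
    exact this.symm
  have hyne : ¬ Commute (y 0) (y r) := by
    simp only [hy, sub_zero, sub_self]
    exact fun hc => hne hc.symm
  have h2 := hy'.high hr1 hrt hcr hyne
  simp only [hy, sub_zero, sub_self] at h2
  have h3 : w ∈ Subgroup.closure (x '' Set.Ico ((t : ℤ) - r) (r : ℤ)) := by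
    have e : w = (x r * x 0 * (x r)⁻¹ * (x 0)⁻¹)⁻¹ := by rw [hw]; group
    rw [e]
    refine inv_mem (Subgroup.closure_mono ?_ h2)
    rintro _ ⟨i, ⟨i1, i2⟩, rfl⟩
    exact ⟨(r : ℤ) - i, ⟨by omega, by omega⟩, rfl⟩
  have hw1 : w ≠ 1 := fun e => hne (mul_inv_eq_iff_eq_mul.mp (mul_inv_eq_one.mp e))
  by_cases hlow : t ≤ 2 * r
  · have h4 : w ∈ Subgroup.closure (x '' Set.Ico 1 ((t : ℤ) - r)) :=
      Subgroup.closure_mono (Set.image_mono (Set.Ico_subset_Ico le_rfl (by omega))) h1
    have h5 := h.meet 1 ((t : ℤ) - r) (t - r - 1) (2 * r - t) (by omega) (by omega) (by omega)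
      (by omega) (by omega) (Subgroup.mem_inf.mpr ⟨by
        rwa [show (1 : ℤ) + ((t - r - 1 : ℕ) : ℤ) = (t : ℤ) - r by omega], by
        rwa [show (t : ℤ) - r + ((2 * r - t : ℕ) : ℤ) = r by omega]⟩)
    rw [Set.Ico_eq_empty (by omega), Set.image_empty, Subgroup.closure_empty, Subgroup.mem_bot] at h5
    exact hw1 h5
  · rw [Set.Ico_eq_empty (by omega), Set.image_empty, Subgroup.closure_empty, Subgroup.mem_bot] at h1
    exact hw1 h1

variable [Finite G] {P : Subgroup G} {g : G}

theorem exists_chain (h : Hyp P g p) : ∃ (t : ℕ) (y : G), 1 ≤ t ∧ Nat.card P = p ^ t ∧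
    Chain (fun i : ℤ => g ^ i * y * (g ^ i)⁻¹) p t ∧
    (∀ a : ℤ, P.map (MulAut.conj (g ^ a)).toMonoidHom =
      Subgroup.closure ((fun i : ℤ => g ^ i * y * (g ^ i)⁻¹) '' Set.Ico a (a + t))) := by
  obtain ⟨t, ht, hcard⟩ := exists_length h
  haveI := Fact.mk h.prime
  have hcT : Nat.card (W P g 0 ((t : ℤ) - 1)) = p := by
    have := hcard (t - 1) (by omega)
    rw [show ((t - 1 : ℕ) : ℤ) = (t : ℤ) - 1 by omega, show t - (t - 1) = 1 by omega, pow_one] at this
    exact this
  obtain ⟨⟨y, hy⟩, hyne⟩ : ∃ y : W P g 0 ((t : ℤ) - 1), y ≠ 1 := by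
    haveI : Nontrivial (W P g 0 ((t : ℤ) - 1)) :=
      Finite.one_lt_card_iff_nontrivial.mp (by rw [hcT]; exact h.prime.one_lt)
    exact exists_ne 1
  set x : ℤ → G := fun i => g ^ i * y * (g ^ i)⁻¹ with hx
  have hxW : ∀ (i lo hi : ℤ), -i ≤ lo → hi ≤ (t : ℤ) - 1 - i → x i ∈ W P g lo hi := fun i lo hi h1 h2 =>
    (shift_mem i).mpr (W_anti (by omega) (by omega) hy)
  have hQW : ∀ k : ℕ, k ≤ t → ∀ a : ℤ,
      Subgroup.closure (x '' Set.Ico a (a + k)) = W P g (-a) ((t : ℤ) - k - a) := by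
    intro k
    induction k with
    | zero =>
      intro _ a
      rw [Nat.cast_zero, add_zero, Set.Ico_self, Set.image_empty, Subgroup.closure_empty, sub_zero]
      refine (Subgroup.eq_bot_of_card_eq _ ?_).symm
      have := card_W_shift P g 0 (t : ℤ) a
      rw [zero_sub] at this
      rw [this, hcard t le_rfl, Nat.sub_self, pow_zero]
    | succ k ih =>
      intro hk a
      have hle : Subgroup.closure (x '' Set.Ico a (a + (k + 1 : ℕ))) ≤
          W P g (-a) ((t : ℤ) - (k + 1 : ℕ) - a) := by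
        rw [Subgroup.closure_le]
        rintro _ ⟨i, ⟨h1, h2⟩, rfl⟩
        exact hxW i _ _ (by omega) (by push_cast at h2 ⊢; omega)
      refine le_antisymm hle ?_
      have hcd : Nat.card (W P g (-a) ((t : ℤ) - (k + 1 : ℕ) - a)) = p ^ (k + 1) := by
        have := card_W_shift P g 0 ((t - (k + 1) : ℕ) : ℤ) a
        rw [hcard (t - (k + 1)) (by omega), zero_sub,
          show t - (t - (k + 1)) = k + 1 by omega,
          show ((t - (k + 1) : ℕ) : ℤ) = (t : ℤ) - (k + 1 : ℕ) by omega] at this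
        exact this
      refine (Subgroup.eq_of_le_of_card_ge hle ?_).ge
      rw [hcd]
      set U := Subgroup.closure (x '' Set.Ico a (a + (k + 1 : ℕ))) with hU
      have h1 : W P g (-a) ((t : ℤ) - k - a) ≤ U := by
        rw [← ih (by omega) a]
        exact Subgroup.closure_mono (Set.image_mono (Set.Ico_subset_Ico le_rfl (by omega)))
      have hlt : W P g (-a) ((t : ℤ) - k - a) < U := by
        refine lt_of_le_of_ne h1 fun e => hyne (Subtype.ext ?_)
        -- the last generator would lie in too small a window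
        have hmem : x (a + k) ∈ W P g (-a) ((t : ℤ) - k - a) := by
          rw [e]; exact Subgroup.subset_closure ⟨a + k, ⟨by omega, by push_cast; omega⟩, rfl⟩
        have h2 : x (a + k) ∈ W P g (-(a + k)) ((t : ℤ) - k - a) :=
          inf_le_W (b := (t : ℤ) - 1 - (a + k)) (c := -a) (by omega)
            (Subgroup.mem_inf.mpr ⟨hxW _ _ _ le_rfl le_rfl, hmem⟩)
        have h3 := (shift_mem (lo := -(a + (k : ℤ))) (hi := (t : ℤ) - k - a) (y := y) (a + k)).mp h2
        rw [show -(a + (k : ℤ)) + (a + k) = 0 by ring,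
          show (t : ℤ) - k - a + (a + k) = t by ring] at h3
        have hbot : W P g 0 (t : ℤ) = ⊥ := Subgroup.eq_bot_of_card_eq _ (by
          rw [hcard t le_rfl, Nat.sub_self, pow_zero])
        rw [hbot, Subgroup.mem_bot] at h3
        exact h3
      have hcW : Nat.card (W P g (-a) ((t : ℤ) - k - a)) = p ^ k := by
        have := card_W_shift P g 0 ((t - k : ℕ) : ℤ) a
        rw [hcard (t - k) (by omega), zero_sub, show t - (t - k) = k by omega,
          show ((t - k : ℕ) : ℤ) = (t : ℤ) - k by omega] at this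
        exact this
      have hUdvd := Subgroup.card_dvd_of_le hle
      rw [hcd] at hUdvd
      obtain ⟨i, hi, he⟩ := (Nat.dvd_prime_pow h.prime).mp hUdvd
      rw [he]
      refine Nat.pow_le_pow_right h.prime.pos ?_
      by_contra hik
      have h4 : Nat.card U ≤ p ^ k := he ▸ Nat.pow_le_pow_right h.prime.pos (by omega)
      exact hlt.ne (Subgroup.eq_of_le_of_card_ge hlt.le (h4.trans hcW.ge))
  have hP : ∀ a : ℤ, P.map (MulAut.conj (g ^ a)).toMonoidHom = Subgroup.closure (x '' Set.Ico a (a + t)) := by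
    intro a
    rw [hQW t le_rfl a]
    conv_lhs => rw [← W_zero P g, map_W]
    simp
  have hspan : ∀ (a : ℤ) (k : ℕ), k ≤ t → Nat.card (Subgroup.closure (x '' Set.Ico a (a + k))) = p ^ k := by
    intro a k hk
    rw [hQW k hk a]
    have := card_W_shift P g 0 ((t - k : ℕ) : ℤ) a
    rw [hcard (t - k) (by omega), zero_sub, show t - (t - k) = k by omega,
      show ((t - k : ℕ) : ℤ) = (t : ℤ) - k by omega] at this
    exact this
  have hnormal : ∀ (A B : Subgroup G) (k : ℕ), A ≤ B → Nat.card A = p ^ k → Nat.card B = p ^ (k + 1) →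
      B ≤ Subgroup.normalizer (A : Set G) := by
    intro A B k hAB hA hB
    refine (Subgroup.normal_subgroupOf_iff_le_normalizer hAB).mp ?_
    haveI : Fact p.Prime := ⟨h.prime⟩
    haveI : Group.IsNilpotent B := (IsPGroup.of_card hB).isNilpotent
    have hco : IsCoatom (A.subgroupOf B) := by
      have hcA : Nat.card (A.subgroupOf B) = p ^ k := by
        rw [Nat.card_congr (Subgroup.subgroupOfEquivOfLe hAB).toEquiv, hA]
      refine ⟨fun e => ?_, fun C hC => ?_⟩
      · rw [e, Subgroup.card_top, hB, pow_succ] at hcA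
        have := h.prime.one_lt
        have := Nat.pow_pos (n := k) h.prime.pos
        nlinarith
      · have hdvd := Subgroup.card_subgroup_dvd_card C
        rw [hB] at hdvd
        obtain ⟨i, hi, he⟩ := (Nat.dvd_prime_pow h.prime).mp hdvd
        refine Subgroup.eq_top_of_card_eq _ ?_
        rw [he, hB]
        congr 1
        by_contra hik
        have h4 : Nat.card C ≤ p ^ k := he ▸ Nat.pow_le_pow_right h.prime.pos (by omega)
        exact hC.ne (Subgroup.eq_of_le_of_card_ge hC.le (h4.trans hcA.ge))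
    exact Subgroup.NormalizerCondition.normal_of_coatom _ Group.normalizerCondition_of_isNilpotent hco
  refine ⟨t, y, ht, ?_, ⟨h.prime, ?_, hspan, ?_, ?_, ?_⟩, hP⟩
  · have := hcard 0 (Nat.zero_le t)
    rwa [Nat.cast_zero, W_zero, Nat.sub_zero] at this
  · intro a b
    have hf : ∀ i : ℤ, MulAut.conj (g ^ a) (x i) = x (a + i) := by
      intro i
      simp only [hx, MulAut.conj_apply, zpow_add]
      group
    show Commute (x 0) (x (b - a)) ↔ Commute (x a) (x b)
    constructor
    · intro hc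
      have h1 := hc.map (MulAut.conj (g ^ a)).toMonoidHom
      change Commute (MulAut.conj (g ^ a) (x 0)) (MulAut.conj (g ^ a) (x (b - a))) at h1
      rwa [hf, hf, add_zero, show a + (b - a) = b by ring] at h1
    · intro hc
      refine (MulAut.conj (g ^ a)).injective ?_
      rw [map_mul (MulAut.conj (g ^ a)) (x 0) (x (b - a)), map_mul (MulAut.conj (g ^ a)) (x (b - a)) (x 0),
        hf, hf, add_zero, show a + (b - a) = b by ring]
      exact hc
  · intro a b k l hk hl hab hbk hbl
    change Subgroup.closure (x '' Set.Ico a (a + k)) ⊓ Subgroup.closure (x '' Set.Ico b (b + l)) ≤ _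
    obtain ⟨m, hm⟩ := Int.eq_ofNat_of_zero_le (show 0 ≤ a + k - b by omega)
    rw [hQW k hk a, hQW l hl b]
    change _ ≤ Subgroup.closure (x '' Set.Ico b (a + k))
    rw [show a + (k : ℤ) = b + m by omega, hQW m (by omega) b, inf_comm]
    refine le_trans ?_ (inf_le_W (P := P) (g := g) (b := (t : ℤ) - l - b) (c := -a) (by omega))
    exact inf_le_inf le_rfl (W_anti le_rfl (by omega))
  · intro a k hk
    exact hnormal _ _ k (Subgroup.closure_mono (Set.image_mono (Set.Ico_subset_Ico le_rfl (by omega))))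
      (hspan a k hk.le) (hspan a (k + 1) hk)
  · intro a k hk
    refine hnormal _ _ k (Subgroup.closure_mono (Set.image_mono (Set.Ico_subset_Ico (by omega) le_rfl))) ?_
      (hspan a (k + 1) hk)
    have := hspan (a + 1) k hk.le
    rwa [show a + 1 + (k : ℤ) = a + (k + 1 : ℕ) by push_cast; ring] at this

theorem main (h : Hyp P g p) {n : ℕ} (hn : 1 ≤ n) {K : Subgroup G}
    (hK : K = ⨆ i ∈ Finset.range (n + 1), MulAut.conj (g ^ i)⁻¹ • P)
    (h2 : P ⊓ (Subgroup.center K).map K.subtype = ⊥) :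
    ∃ t : ℕ, Nat.card P = p ^ t ∧ 1 ≤ t ∧ t ≤ 3 * n ∧ t ≠ 3 * n - 1 := by
  classical
  obtain ⟨t, y, ht, hcard, hch, hP⟩ := exists_chain h
  refine ⟨t, hcard, ht, ?_⟩
  set x : ℤ → G := fun i => g ^ i * y * (g ^ i)⁻¹ with hx
  have hterm : ∀ i : ℕ, MulAut.conj (g ^ i)⁻¹ • P =
      Subgroup.closure (x '' Set.Ico (-(i : ℤ)) (-(i : ℤ) + t)) := by
    intro i
    rw [← hP]
    change P.map (MulAut.conj (g ^ i)⁻¹).toMonoidHom = _
    rw [zpow_neg, zpow_natCast]
  have hP0 : P = Subgroup.closure (x '' Set.Ico 0 (t : ℤ)) := by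
    have := hterm 0
    simpa using this
  -- a generator of `P` commuting with all the generators of `K` is impossible
  have hkey : ∀ j : ℤ, 0 ≤ j → j < t →
      ∃ i : ℤ, -(n : ℤ) ≤ i ∧ i < t ∧ ¬ Commute (x j) (x i) := by
    intro j hj0 hjt
    by_contra hall
    have hxP : x j ∈ P := by rw [hP0]; exact Subgroup.subset_closure ⟨j, ⟨hj0, hjt⟩, rfl⟩
    have hxK : x j ∈ K := by
      rw [hK]
      refine Subgroup.mem_iSup_of_mem 0 (Subgroup.mem_iSup_of_mem (by simp) ?_)
      simpa using hxP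
    have hcom : K ≤ Subgroup.centralizer {x j} := by
      rw [hK]
      refine iSup₂_le fun i hi => ?_
      rw [Finset.mem_range] at hi
      rw [hterm, Subgroup.closure_le]
      rintro _ ⟨l, ⟨h1, h2⟩, rfl⟩
      rw [SetLike.mem_coe, Subgroup.mem_centralizer_singleton_iff]
      have : Commute (x j) (x l) := by_contra fun hc => hall ⟨l, by omega, by omega, hc⟩
      exact this.eq.symm
    have : x j ∈ P ⊓ (Subgroup.center K).map K.subtype := Subgroup.mem_inf.mpr ⟨hxP,
      ⟨⟨x j, hxK⟩, Subgroup.mem_center_iff.mpr fun k => Subtype.ext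
        (Subgroup.mem_centralizer_singleton_iff.mp (hcom k.2)), rfl⟩⟩
    rw [h2, Subgroup.mem_bot] at this
    have hc := hch.span j 1 ht
    rw [show j + ((1 : ℕ) : ℤ) = j + 1 by norm_num,
      show Set.Ico j (j + 1) = {j} by ext; simp; omega, Set.image_singleton, this,
      Subgroup.closure_singleton_one, Subgroup.card_bot, pow_one] at hc
    exact h.prime.ne_one hc.symm
  obtain ⟨i0, hi1, hi2, hi3⟩ := hkey 0 le_rfl (by omega)
  have hex : ∃ d : ℕ, ¬ Commute (x 0) (x d) := by
    rcases le_total 0 i0 with hi | hi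
    · exact ⟨i0.toNat, by rwa [Int.toNat_of_nonneg hi]⟩
    · refine ⟨(-i0).toNat, fun hc => hi3 ?_⟩
      rw [Int.toNat_of_nonneg (by omega), show -i0 = 0 - i0 by ring] at hc
      exact ((hch.shift i0 0).mp hc).symm
  set r := Nat.find hex with hr
  have hne : ¬ Commute (x 0) (x r) := Nat.find_spec hex
  have hlt : ∀ d : ℕ, d < r → Commute (x 0) (x d) := fun d hd => not_not.mp (Nat.find_min hex hd)
  have hr1 : 1 ≤ r := by
    by_contra h0
    rw [show r = 0 by omega] at hne
    exact hne (Commute.refl _)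
  have hrn : r ≤ n ∨ 2 * r ≤ t + n := by
    by_contra hcon
    rw [not_or, not_le, not_le] at hcon
    have hj : ∀ j : ℤ, 0 ≤ j → j < t → ¬ ((j + n < r) ∧ ((t : ℤ) - 1 - j < r)) := by
      intro j hj0 hjt hj
      obtain ⟨i, h1, h2, h3⟩ := hkey j hj0 hjt
      exact h3 (hch.commute_of hlt (by omega) (by omega))
    by_cases htr : r < t
    · exact hj ((t : ℤ) - r) (by omega) (by omega) ⟨by omega, by omega⟩
    · exact hj 0 le_rfl (by omega) ⟨by omega, by omega⟩
  by_cases hrt : r < t
  · have := hch.bound hr1 hrt hlt hne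
    omega
  · omega

end CfsgLib.IsoSubgroups
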